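import Groth.Agent.Algz.K155.CMLoc
import Groth.Agent.Algz.K573.StalkBridge
import Groth.Prelude.Def_Wider

/-!
# Cohen–Macaulay complement and few generators: the numerical condition
-/

set_option autoImplicit false
set_option linter.unusedSectionVars false
universe u

open CategoryTheory CategoryTheory.Limits AlgebraicGeometry Opposite TopologicalSpace

attribute [-instance] AlgebraicGeometry.specOverSpec

namespace K155.CMExt

open IsLocalRing K155.CMLoc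

section delta

variable {A : Type u} [CommRing A] [IsNoetherianRing A] [IsLocalRing A]

/-- Lower bound for the distance to `V(𝔞)` in `V(I)`. -/
theorem exists_of_deltaYZ (I 𝔞 : Ideal A) {d : PrimeSpectrum A → ℕ}
    (hd1 : ∀ p : PrimeSpectrum A, ringKrullDim (A ⧸ p.asIdeal) = d p)
    (hd : K572.Dist2.IsDim (fun p => (d p : ℤ))) (q : PrimeSpectrum A)
    (hq : q ∈ PrimeSpectrum.zeroLocus (R := A) I) (n : ℕ)
    (hn : Algz.deltaYZ A I (LocCoh.puncturedOpen A 𝔞) ⟨q, hq⟩ = n) :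
    ∃ E : ℕ, (E : WithBot ℕ∞) ≤ ringKrullDim (A ⧸ 𝔞) ∧ d q ≤ n + E := by
  have hdim : K572.Dist2.IsDim (Y := PrimeSpectrum.zeroLocus (R := A) I)
      (fun x => (d x.1 : ℤ)) := by
    refine isDim_comp (X := PrimeSpectrum.zeroLocus (R := A) I) hd
      (f := Subtype.val) Topology.IsInducing.subtypeVal ?_ Subtype.val_injective
    intro a b y hay _
    rw [Subtype.range_coe]
    exact le_trans (show I ≤ a.1.asIdeal from a.2) ((PrimeSpectrum.le_iff_specializes _ _).2 hay)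
  obtain ⟨z, hz, hle⟩ := K572.Dist2.dimFun_le_deltaZ_add hdim hn
  have hz' : z.1 ∉ (LocCoh.puncturedOpen A 𝔞).1 := hz
  have hz2 : 𝔞 ≤ z.1.asIdeal := by
    by_contra hcon
    exact hz' hcon
  have h1 : ringKrullDim (A ⧸ z.1.asIdeal) ≤ ringKrullDim (A ⧸ 𝔞) :=
    ringKrullDim_le_of_surjective (Ideal.Quotient.factor hz2) (Ideal.Quotient.factor_surjective hz2)
  refine ⟨d z.1, by rw [← hd1]; exact h1, ?_⟩
  have h5 : (d q : ℤ) ≤ n + d z.1 := hle
  exact_mod_cast h5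

end delta

variable (A : Type u) [CommRing A] [IsNoetherianRing A] [IsLocalRing A]
  (hdc : ∃ ω : Dual.D A, Dual.IsDualizing A ω) (I 𝔞 : Ideal A)
  (G : ℕᵒᵖ ⥤ (↑(LocCoh.puncturedOpen A 𝔞) : Scheme.{u}).Modules)
  (h2 : ∀ p : Ideal A, p ∈ minimalPrimes A → ringKrullDim (A ⧸ p) = ringKrullDim A)
  (h3 : ∀ p : PrimeSpectrum A, ¬ I ≤ p.asIdeal →
    LocCoh.IsCohenMacaulayLocalRing (Localization.AtPrime p.asIdeal)) (d : ℕ)
  (h5 : ringKrullDim (A ⧸ 𝔞) + ((d + 2 : ℕ) : WithBot ℕ∞) < ringKrullDim A)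
  (h6 : ∀ (y : (↑(LocCoh.puncturedOpen A 𝔞) : Scheme.{u})),
    (LocCoh.puncturedOpen A 𝔞).ι.base y ∈ PrimeSpectrum.zeroLocus (R := A) I →
    ∀ P : PrimeSpectrum (Algz.hatRing I y), ¬ Algz.hatIdeal I y ≤ P.asIdeal →
    Module.Finite (Localization.AtPrime P.asIdeal)
      (LocalizedModule P.asIdeal.primeCompl ↥(Algz.hatStalk I G y)) ∧
    Module.Free (Localization.AtPrime P.asIdeal)
      (LocalizedModule P.asIdeal.primeCompl ↥(Algz.hatStalk I G y)))

include hdc h2 h3 h5 h6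

/-- The `(d+2)`-inequality. -/
theorem ineq (y : (↑(LocCoh.puncturedOpen A 𝔞) : Scheme.{u}))
    (hy : (LocCoh.puncturedOpen A 𝔞).ι.base y ∈ PrimeSpectrum.zeroLocus (R := A) I)
    (P : PrimeSpectrum (Algz.hatRing I y)) (hP : ¬ Algz.hatIdeal I y ≤ P.asIdeal) :
    ((d + 2 : ℕ) : ℕ∞) < Algz.depthAt P ↥(Algz.hatStalk I G y) + Order.coheight P +
      Algz.deltaYZ A I (LocCoh.puncturedOpen A 𝔞) ⟨(LocCoh.puncturedOpen A 𝔞).ι.base y, hy⟩ := by
  by_cases htop : Algz.deltaYZ A I (LocCoh.puncturedOpen A 𝔞)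
      ⟨(LocCoh.puncturedOpen A 𝔞).ι.base y, hy⟩ = ⊤
  · rw [htop, add_top]
    exact ENat.natCast_lt_top _
  obtain ⟨δ, hδ1, hδ⟩ := K572.Dist2.exists_isDim A (isCatenary hdc)
  obtain ⟨D, hD⟩ := Groth.Agent.Ega4A.EquidimFlat.exists_nat_ringKrullDim A
  obtain ⟨hfin, hfree⟩ := h6 y hy P hP
  let := K573.StalkBridge.alg (LocCoh.puncturedOpen A 𝔞) y
  have hloc := K573.StalkBridge.isLocalization (LocCoh.puncturedOpen A 𝔞) y
  have hIq : I ≤ (K573.StalkBridge.pt (LocCoh.puncturedOpen A 𝔞) y).asIdeal := hy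
  have k1 := key hdc h2 I h3 hδ1 hδ hD (K573.StalkBridge.pt (LocCoh.puncturedOpen A 𝔞) y) hIq
    ((↑(LocCoh.puncturedOpen A 𝔞) : Scheme.{u}).presheaf.stalk y) (Algz.stalkIdeal I y) rfl
    ↥(Algz.hatStalk I G y) P hP hfin hfree
  obtain ⟨n, hn⟩ := ENat.ne_top_iff_exists.mp htop
  obtain ⟨E, hE, hle⟩ := exists_of_deltaYZ I 𝔞 hδ1 hδ _ hy n hn.symm
  have h7 : (E : WithBot ℕ∞) + ((d + 2 : ℕ) : WithBot ℕ∞) < D := by
    rw [← hD]
    exact (add_le_add_left hE _).trans_lt h5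
  have h8 : E + (d + 2) < D := by exact_mod_cast h7
  rw [← hn]
  refine lt_of_lt_of_le ?_ (add_le_add_left k1 _)
  have h9 : d + 2 < D - δ (K573.StalkBridge.pt (LocCoh.puncturedOpen A 𝔞) y) + n := by
    have : δ (K573.StalkBridge.pt (LocCoh.puncturedOpen A 𝔞) y) ≤ n + E := hle
    omega
  exact_mod_cast h9

/-- The reduction to the theorem on ideals with few generators. -/
theorem main (h4 : ∃ f : Fin d → A, I = Ideal.span (Set.range f))
    (H : ∀ (d : ℕ), 1 ≤ d → ∀ (f : Fin d → A),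
      PrimeSpectrum.zeroLocus (R := A) I = PrimeSpectrum.zeroLocus (R := A) (Set.range f) →
      (∀ (y : (↑(LocCoh.puncturedOpen A 𝔞) : Scheme.{u}))
        (hy : (LocCoh.puncturedOpen A 𝔞).ι.base y ∈ PrimeSpectrum.zeroLocus (R := A) I),
        ∀ P : PrimeSpectrum (Algz.hatRing I y), ¬ Algz.hatIdeal I y ≤ P.asIdeal →
        ((d + 2 : ℕ) : ℕ∞) < Algz.depthAt P ↥(Algz.hatStalk I G y) + Order.coheight P +
          Algz.deltaYZ A I (LocCoh.puncturedOpen A 𝔞)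
            ⟨(LocCoh.puncturedOpen A 𝔞).ι.base y, hy⟩) →
      Algz.Extends I (LocCoh.puncturedOpen A 𝔞) G) :
    Algz.Extends I (LocCoh.puncturedOpen A 𝔞) G := by
  obtain ⟨f, hf⟩ := h4
  rcases Nat.eq_zero_or_pos d with rfl | hpos
  · have hI : I = ⊥ := by
      rw [hf, Set.range_eq_empty f, Ideal.span_empty]
    refine H 1 le_rfl (fun _ => 0) ?_ ?_
    · rw [hI, Set.range_const]
      simp
    · intro y hy P hP
      refine absurd ?_ hP
      subst hI
      have h7 : Algz.stalkIdeal (⊥ : Ideal A) y ≤ ⊥ := (Ideal.map_bot).le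
      unfold Algz.hatIdeal
      rw [Ideal.map_le_iff_le_comap]
      exact h7.trans bot_le
  · refine H d hpos f ?_ (ineq A hdc I 𝔞 G h2 h3 d h5 h6)
    rw [hf, PrimeSpectrum.zeroLocus_span]

end K155.CMExt
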