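import Groth.Agent.Sga2lef.H106.Depth
import Groth.Agent.Sga2lef.H503.RegNil
import Groth.Agent.Ega4C.DepthExt
import Groth.Agent.Ega4A.CMModule
import Groth.Agent.Ega4A.EquidimFlat
import Groth.Agent.Algz.K572.Dist2
import Groth.Agent.CalgA.UnivCat
import Groth.Agent.S1721
import Groth.Prelude.Def_Algz2

/-!
# Depth of a locally free module over the completion of a Cohen–Macaulay-like local ring
-/

set_option autoImplicit false
set_option linter.unusedSectionVars false
universe u

open CategoryTheory Limits TensorProduct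
open Groth.Agent.LoccohA Groth.Agent.LoccohB

namespace K155.CMLoc

open IsLocalRing Groth.Agent.Sga2lef.H106 Groth.Agent.Ega4B.CatHeight

/-- Coheight in a local ring is the dimension of the interval up to the closed point. -/
theorem coheight_eq_krullDim_Icc {R : Type u} [CommRing R] [IsLocalRing R] (p : PrimeSpectrum R) :
    ((Order.coheight p : ℕ∞) : WithBot ℕ∞) = Order.krullDim (Set.Icc p (closedPoint R)) := by
  rw [Order.coheight_eq_krullDim_Ici]
  refine Order.krullDim_eq_of_orderIso
    { toFun := fun x => ⟨x.1, x.2, le_maximalIdeal x.1.isPrime.ne_top⟩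
      invFun := fun x => ⟨x.1, x.2.1⟩
      left_inv := fun x => rfl
      right_inv := fun x => rfl
      map_rel_iff' := Iff.rfl }

section loc

variable {R : Type u} [CommRing R] [IsNoetherianRing R] [IsLocalRing R]

/-- depth + coheight is the same on a local ring and its adic completions. -/
theorem depth_add_coheight (hω : ∃ ω : Dual.D R, Dual.IsDualizing R ω) (J : Ideal R)
    (hJ : J ≤ maximalIdeal R) (P : PrimeSpectrum (AdicCompletion J R)) :
    LocCoh.depth (Localization.AtPrime P.asIdeal) (Localization.AtPrime P.asIdeal) +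
        Order.coheight P =
      LocCoh.depth (Localization.AtPrime (PrimeSpectrum.comap
        (algebraMap R (AdicCompletion J R)) P).asIdeal) (Localization.AtPrime
        (PrimeSpectrum.comap (algebraMap R (AdicCompletion J R)) P).asIdeal) +
      Order.coheight (PrimeSpectrum.comap (algebraMap R (AdicCompletion J R)) P) := by
  have : IsLocalRing (AdicCompletion J R) := Local.isLocalRing_cp J hJ
  have hIm : J.map (algebraMap R (AdicCompletion J R)) ≤ maximalIdeal (AdicCompletion J R) :=
    Local.map_le_of_isMaximal J hJ _ inferInstance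
  have hcomap : PrimeSpectrum.comap (algebraMap R (AdicCompletion J R))
      (closedPoint (AdicCompletion J R)) = closedPoint R := by
    apply PrimeSpectrum.ext
    change (maximalIdeal (AdicCompletion J R)).comap _ = maximalIdeal R
    refine le_antisymm (le_maximalIdeal ?_) (Ideal.map_le_iff_le_comap.1
      (Local.map_maximalIdeal J hJ).le)
    exact (Ideal.IsPrime.comap (algebraMap R (AdicCompletion J R))).ne_top
  have hPle : P ≤ closedPoint (AdicCompletion J R) := le_maximalIdeal P.isPrime.ne_top
  obtain ⟨-, h2⟩ := Groth.Agent.S1714.result R hω J R P (closedPoint (AdicCompletion J R)) hPle hIm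
  rw [hcomap, ← coheight_eq_krullDim_Icc, ← coheight_eq_krullDim_Icc, ← WithBot.coe_add,
    ← WithBot.coe_add, WithBot.coe_inj] at h2
  exact h2

/-- A module over the completion which is finite free at `P`. -/
theorem le_depthAt (hω : ∃ ω : Dual.D R, Dual.IsDualizing R ω) (J : Ideal R)
    (hJ : J ≤ maximalIdeal R) (F : Type u) [AddCommGroup F] [Module (AdicCompletion J R) F]
    (P : PrimeSpectrum (AdicCompletion J R))
    (hfin : Module.Finite (Localization.AtPrime P.asIdeal) (LocalizedModule P.asIdeal.primeCompl F))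
    (hfree : Module.Free (Localization.AtPrime P.asIdeal)
      (LocalizedModule P.asIdeal.primeCompl F)) :
    LocCoh.depth (Localization.AtPrime (PrimeSpectrum.comap
        (algebraMap R (AdicCompletion J R)) P).asIdeal) (Localization.AtPrime
        (PrimeSpectrum.comap (algebraMap R (AdicCompletion J R)) P).asIdeal) +
      Order.coheight (PrimeSpectrum.comap (algebraMap R (AdicCompletion J R)) P) ≤
    Algz.depthAt P F + Order.coheight P := by
  rw [← depth_add_coheight hω J hJ P]
  have hN : IsNoetherianRing (AdicCompletion J R) :=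
    Groth.Agent.Ega4A.CompleteNoeth.isNoetherianRing_adicCompletion J
  have hN' : IsNoetherianRing (Localization.AtPrime P.asIdeal) :=
    IsLocalization.isNoetherianRing P.asIdeal.primeCompl _ hN
  gcongr
  exact Groth.Agent.Sga2lef.H503.RegNil.le_depth_free _ _

end loc

section Top

open K572.Dist2

/-- A dimension function restricts along an inducing map whose range is convex for
specialization. -/
theorem isDim_comp {X Y : Type u} [TopologicalSpace X] [TopologicalSpace Y] [T0Space Y]
    {δ : Y → ℤ} (hδ : IsDim δ) {f : X → Y} (hf : Topology.IsInducing f)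
    (hconv : ∀ (a b : X) (y : Y), f a ⤳ y → y ⤳ f b → y ∈ Set.range f)
    (hinj : Function.Injective f) : IsDim (fun x => δ (f x)) := by
  intro x y hxy hne
  have h1 : f x ⤳ f y := hxy.map hf.continuous
  obtain ⟨h2, h3⟩ := hδ (f x) (f y) h1 (fun h => hne (hinj h))
  refine ⟨h2, fun H => h3 fun z hz1 hz2 => ?_⟩
  obtain ⟨w, rfl⟩ := hconv x y z hz1 hz2
  rcases H w (hf.specializes_iff.1 hz1) (hf.specializes_iff.1 hz2) with h | h
  · exact Or.inl (congrArg f h)
  · exact Or.inr (congrArg f h)

end Top

section glob

variable {A : Type u} [CommRing A] [IsNoetherianRing A] [IsLocalRing A]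

theorem isCatenary (hdc : ∃ ω : Dual.D A, Dual.IsDualizing A ω) : CAlg.IsCatenary A := by
  obtain ⟨ω, hω⟩ := hdc
  exact Groth.Agent.CalgA.UnivCat.isCatenary_of_isUniversallyCatenary
    (Groth.Agent.S1721.result A ω hω)

/-- Coheight in a localization. -/
theorem coheight_atPrime {d : PrimeSpectrum A → ℕ} (hd : K572.Dist2.IsDim (fun p => (d p : ℤ)))
    (q : PrimeSpectrum A) (R : Type u) [CommRing R] [IsLocalRing R] [Algebra A R]
    [IsLocalization.AtPrime R q.asIdeal] (p : PrimeSpectrum R) :
    Order.coheight p = ((d (PrimeSpectrum.comap (algebraMap A R) p) - d q : ℕ) : ℕ∞) := by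
  have hs : p ⤳ closedPoint R := by
    rw [← PrimeSpectrum.le_iff_specializes]
    exact le_maximalIdeal p.isPrime.ne_top
  have hf := PrimeSpectrum.localization_comap_isInducing R q.asIdeal.primeCompl
  have hcl : PrimeSpectrum.comap (algebraMap A R) (closedPoint R) = q := by
    apply PrimeSpectrum.ext
    exact IsLocalization.AtPrime.under_maximalIdeal R q.asIdeal
  have h1 := K572.Dist.codimPt_inducing hf hs (fun y hy => by
    rw [PrimeSpectrum.localization_comap_range R q.asIdeal.primeCompl]
    rw [hcl, ← PrimeSpectrum.le_iff_specializes] at hy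
    exact Set.disjoint_left.2 fun x hx hxp => hx (hy hxp))
  rw [K572.Dist2.codimPt_closedPoint, K572.Dist2.codimPt_dimFun hd, hcl] at h1
  rw [← h1]
  congr 1
  omega

/-- The Cohen–Macaulay localization has depth the height. -/
theorem depth_comap_CM (q : PrimeSpectrum A) (R : Type u) [CommRing R] [Algebra A R]
    [IsLocalization.AtPrime R q.asIdeal] (p : PrimeSpectrum R)
    (h : LocCoh.IsCohenMacaulayLocalRing (Localization.AtPrime
      (PrimeSpectrum.comap (algebraMap A R) p).asIdeal)) :
    ((LocCoh.depth (Localization.AtPrime p.asIdeal) (Localization.AtPrime p.asIdeal) : ℕ∞) :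
      WithBot ℕ∞) = ((PrimeSpectrum.comap (algebraMap A R) p).asIdeal.height : ℕ∞) := by
  have h1 := Groth.Agent.Ega4B.LocTransfer.depth_eq_of_isLocalization q.asIdeal.primeCompl
          (Algebra.linearMap A R) p.asIdeal
  have h2 := h.supportDim_eq_depth
  rw [Module.supportDim_self_eq_ringKrullDim, IsLocalization.AtPrime.ringKrullDim_eq_height
    (PrimeSpectrum.comap (algebraMap A R) p).asIdeal] at h2
  rw [h2]
  exact congrArg (fun z : ℕ∞ => (z : WithBot ℕ∞)) h1

theorem hasDual_localization (hdc : ∃ ω : Dual.D A, Dual.IsDualizing A ω) (S : Submonoid A)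
    (R : Type u) [CommRing R] [Algebra A R] [IsLocalization S R] :
    ∃ ω : Dual.D R, Dual.IsDualizing R ω :=
  Groth.Agent.S0377.HasDual.of_ringEquiv
    (IsLocalization.algEquiv S (Localization S) R).toRingEquiv
    (Groth.Agent.S0377.HasDual.localization S hdc)

/-- The main inequality at a point. -/
theorem key (hdc : ∃ ω : Dual.D A, Dual.IsDualizing A ω)
    (h2 : ∀ p : Ideal A, p ∈ minimalPrimes A → ringKrullDim (A ⧸ p) = ringKrullDim A) (I : Ideal A)
    (h3 : ∀ p : PrimeSpectrum A, ¬ I ≤ p.asIdeal →
      LocCoh.IsCohenMacaulayLocalRing (Localization.AtPrime p.asIdeal))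
    {d : PrimeSpectrum A → ℕ} (hd1 : ∀ p : PrimeSpectrum A, ringKrullDim (A ⧸ p.asIdeal) = d p)
    (hd : K572.Dist2.IsDim (fun p => (d p : ℤ))) {D : ℕ} (hD : ringKrullDim A = D)
    (q : PrimeSpectrum A) (hIq : I ≤ q.asIdeal) (R : Type u) [CommRing R] [IsLocalRing R]
    [Algebra A R] [IsLocalization.AtPrime R q.asIdeal] (J : Ideal R)
    (hJI : J = I.map (algebraMap A R)) (F : Type u) [AddCommGroup F]
    [Module (AdicCompletion J R) F]
    (P : PrimeSpectrum (AdicCompletion J R))
    (hP : ¬ J.map (algebraMap R (AdicCompletion J R)) ≤ P.asIdeal)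
    (hfin : Module.Finite (Localization.AtPrime P.asIdeal) (LocalizedModule P.asIdeal.primeCompl F))
    (hfree : Module.Free (Localization.AtPrime P.asIdeal)
      (LocalizedModule P.asIdeal.primeCompl F)) :
    ((D - d q : ℕ) : ℕ∞) ≤ Algz.depthAt P F + Order.coheight P := by
  subst hJI
  have hN : IsNoetherianRing R := IsLocalization.isNoetherianRing q.asIdeal.primeCompl R inferInstance
  have hω := hasDual_localization hdc q.asIdeal.primeCompl R
  have hJ : I.map (algebraMap A R) ≤ maximalIdeal R := by
    rw [← IsLocalization.AtPrime.map_eq_maximalIdeal q.asIdeal R]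
    exact Ideal.map_mono hIq
  refine le_trans ?_ (le_depthAt hω (I.map (algebraMap A R)) hJ F P hfin hfree)
  set p := PrimeSpectrum.comap (algebraMap R (AdicCompletion (I.map (algebraMap A R)) R)) P with hp
  set p₀ := PrimeSpectrum.comap (algebraMap A R) p with hp₀
  have hp₀I : ¬ I ≤ p₀.asIdeal := fun h => hP (by
    rw [Ideal.map_le_iff_le_comap, Ideal.map_le_iff_le_comap]
    exact h)
  have hcl : PrimeSpectrum.comap (algebraMap A R) (closedPoint R) = q := by
    apply PrimeSpectrum.ext
    exact IsLocalization.AtPrime.under_maximalIdeal R q.asIdeal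
  have hle : p₀ ≤ q := by
    have h1 : p ≤ closedPoint R := le_maximalIdeal p.isPrime.ne_top
    have h2 : p₀ ≤ PrimeSpectrum.comap (algebraMap A R) (closedPoint R) := Ideal.comap_mono h1
    exact h2.trans hcl.le
  have hdle : d q ≤ d p₀ := by
    have := K572.Dist2.dimFun_le hd ((PrimeSpectrum.le_iff_specializes _ _).1 hle)
    exact_mod_cast this
  have h4 := depth_comap_CM q R p (h3 p₀ hp₀I)
  have h5 := coheight_atPrime hd q R p
  have h6 := Groth.Agent.Ega4A.EquidimFlat.height_add_dim_quotient h2 (isCatenary hdc) p₀.asIdeal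
  rw [hd1 p₀, hD] at h6
  obtain ⟨n, hn⟩ : ∃ n : ℕ, p₀.asIdeal.height = n := by
    have := Ideal.height_ne_top p₀.isPrime.ne_top
    exact ⟨_, (ENat.natCast_toNat this).symm⟩
  rw [hn] at h6
  have h7 : n + d p₀ = D := by exact_mod_cast h6
  have h8 : LocCoh.depth (Localization.AtPrime p.asIdeal) (Localization.AtPrime p.asIdeal) =
      (n : ℕ∞) := by
    rw [WithBot.coe_inj] at h4
    exact h4.trans hn
  rw [h8, h5]
  have h9 : D - d q = n + (d p₀ - d q) := by omega
  rw [h9, Nat.cast_add]

end glob

end K155.CMLoc
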